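import Cfsg.Agent.Lib.Helper35.Simple2
import Cfsg.Agent.Lib.Helper35.PresSuz

namespace Cfsg.Agent.Lib.Helper35.SuzOrd.Y0

open Cfsg.Agent.Lib.Helper35

set_option maxRecDepth 100000
def yw : List Nat := [0, 1, 2, 3, 4, 5, 6]
def tA0 : Nat := 0x4a60000cf0000001181160000001dc21d0000000001610001600000000000000000001240830c80c70c60c500010d10c00000000004e081042000
def tJ0 : Nat := 0x1c0000300000000803000000008000000000000000000000000000000000000000000300100a010000000000000000000400001000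
def tA1 : Nat := 0x5164d60000000000000006a60006660000000000000008980000000000005260000c60c5000000000000000000000000000111110000081000043000
def tJ1 : Nat := 0x2008000000000000000100000400000000000000020000000000000c0000280400000000000000000000000000000000000000001800
def tA2 : Nat := 0xd139100008e00085800008a0cd0cb0003430004448187d90000000c80000c678612746708306411f00011e06008211500011305608104f049044000
def tJ2 : Nat := 0x539000000000014000000060080000500001400003000000018000049900022400000400000000004000000000000080000200400800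
def tA3 : Nat := 0x31c08f08e0000000cd0cc0000000000002e70000000c80c744574f00000070f08444308306606512212100008200011911805a08105205004a045000
def tJ3 : Nat := 0x100180000000000005000000020030040080000098c0000100000200400000000000000000000040000100200400800
def tA4 : Nat := 0x8f1dc0000000cd3cd0000000000890002260c700000000000000000000008400008300006700000000008200005e00000008105705305104b046000
def tJ4 : Nat := 0x201000000007194000000000040000100400000000000000000000020000080000000000000002000000000000040000000000000000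
def tA5 : Nat := 0x3622a30000002663a708a00000000008814d0860005e70850000000000007237a300075834d00019c08200006100005d00005b05805400004c047000
def tJ5 : Nat := 0xa00000000008000000000000000000300000221000000000000009849880000670400000000000004000010000040080100000400800
def tA6 : Nat := 0x35829b00000008b08a5e70000890000cc0872660000853a700075b08400071b79b79975934700008200006306205f08105c00005905500004d048000
def tJ6 : Nat := 0xc00000000000000010000000000200000a000000000000080000098698c0100270600000000002004008000020000080100000400800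
def tA7 : Nat := 0x3666d349035d3a259959841e59561350f30f3984018188c54014137477487527c54107057044c35485473ca5c55c48479013c57c1801741581000000
def tJ7 : Nat := 0x700038053869c4680c01643584b4e58059c63012a016192310f19f23e204c644cf9a1281d13a18c3105f0895600d9c0ba4040068400000
def tP : Nat := 0x3e1ece6722f158aa52271308a3e1a8cc5c2d160a84c251208c381b0d0602c150a04c240e06830160a048200000
def par : Par := ⟨12, 6, 4095, 63, 4159, 4096⟩
def tabs : Nat → Nat
  | 0 => tA0
  | 1 => tA1
  | 2 => tA2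
  | 3 => tA3
  | 4 => tA4
  | 5 => tA5
  | 6 => tA6
  | 7 => tA7
  | _ => 0
def pe (u : Nat) : Nat := Nat.land (Nat.shiftRight tP (Nat.mul u 9)) 511
def je0 (v : Nat) : Nat := Nat.land (Nat.shiftRight tJ0 (Nat.mul v 11)) 2047
def stp0 (off v : Nat) : Nat := Nat.land (Nat.add (Nat.land (Nat.shiftRight tA0 (Nat.mul v 12)) 4095) off) 4159
theorem stp0_eq : ∀ off v, stp0 off v = step par (tabs 0) off v := fun _ _ => rfl
attribute [irreducible] stp0
def je1 (v : Nat) : Nat := Nat.land (Nat.shiftRight tJ1 (Nat.mul v 11)) 2047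
def stp1 (off v : Nat) : Nat := Nat.land (Nat.add (Nat.land (Nat.shiftRight tA1 (Nat.mul v 12)) 4095) off) 4159
theorem stp1_eq : ∀ off v, stp1 off v = step par (tabs 1) off v := fun _ _ => rfl
attribute [irreducible] stp1
def je2 (v : Nat) : Nat := Nat.land (Nat.shiftRight tJ2 (Nat.mul v 11)) 2047
def stp2 (off v : Nat) : Nat := Nat.land (Nat.add (Nat.land (Nat.shiftRight tA2 (Nat.mul v 12)) 4095) off) 4159
theorem stp2_eq : ∀ off v, stp2 off v = step par (tabs 2) off v := fun _ _ => rfl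
attribute [irreducible] stp2
def je3 (v : Nat) : Nat := Nat.land (Nat.shiftRight tJ3 (Nat.mul v 11)) 2047
def stp3 (off v : Nat) : Nat := Nat.land (Nat.add (Nat.land (Nat.shiftRight tA3 (Nat.mul v 12)) 4095) off) 4159
theorem stp3_eq : ∀ off v, stp3 off v = step par (tabs 3) off v := fun _ _ => rfl
attribute [irreducible] stp3
def je4 (v : Nat) : Nat := Nat.land (Nat.shiftRight tJ4 (Nat.mul v 11)) 2047
def stp4 (off v : Nat) : Nat := Nat.land (Nat.add (Nat.land (Nat.shiftRight tA4 (Nat.mul v 12)) 4095) off) 4159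
theorem stp4_eq : ∀ off v, stp4 off v = step par (tabs 4) off v := fun _ _ => rfl
attribute [irreducible] stp4
def je5 (v : Nat) : Nat := Nat.land (Nat.shiftRight tJ5 (Nat.mul v 11)) 2047
def stp5 (off v : Nat) : Nat := Nat.land (Nat.add (Nat.land (Nat.shiftRight tA5 (Nat.mul v 12)) 4095) off) 4159
theorem stp5_eq : ∀ off v, stp5 off v = step par (tabs 5) off v := fun _ _ => rfl
attribute [irreducible] stp5
def je6 (v : Nat) : Nat := Nat.land (Nat.shiftRight tJ6 (Nat.mul v 11)) 2047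
def stp6 (off v : Nat) : Nat := Nat.land (Nat.add (Nat.land (Nat.shiftRight tA6 (Nat.mul v 12)) 4095) off) 4159
theorem stp6_eq : ∀ off v, stp6 off v = step par (tabs 6) off v := fun _ _ => rfl
attribute [irreducible] stp6
def je7 (v : Nat) : Nat := Nat.land (Nat.shiftRight tJ7 (Nat.mul v 11)) 2047
def stp7 (off v : Nat) : Nat := Nat.land (Nat.add (Nat.land (Nat.shiftRight tA7 (Nat.mul v 12)) 4095) off) 4159
theorem stp7_eq : ∀ off v, stp7 off v = step par (tabs 7) off v := fun _ _ => rfl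
attribute [irreducible] stp7
def je : Nat → Nat → Nat
  | 0 => je0
  | 1 => je1
  | 2 => je2
  | 3 => je3
  | 4 => je4
  | 5 => je5
  | 6 => je6
  | 7 => je7
  | _ => fun _ => 0
def st : Nat → Nat → Nat → Nat
  | 0 => stp0
  | 1 => stp1
  | 2 => stp2
  | 3 => stp3
  | 4 => stp4
  | 5 => stp5
  | 6 => stp6
  | 7 => stp7
  | _ => fun off v => step par 0 off v
theorem hst : ∀ l off v, st l off v = step par (tabs l) off v := by
  intro l off v
  rcases Nat.lt_or_ge l 8 with h | h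
  · interval_cases l
    exacts [stp0_eq off v, stp1_eq off v, stp2_eq off v, stp3_eq off v, stp4_eq off v, stp5_eq off v, stp6_eq off v, stp7_eq off v]
  · obtain ⟨k, rfl⟩ : ∃ k, l = k + 8 := ⟨l - 8, by omega⟩
    rfl
def lf0_0 : Leaf (walkS st) := ⟨[0], [], 0, 0, (fun off v => (stp0 off v)), (fun _ v => v), (fun _ u _ => u), fun _ _ => rfl, fun _ _ => rfl⟩
def lf0_1 : Leaf (walkS st) := ⟨[], [5, 0, 5], 12, 2, (fun _ v => v), (fun off v => (stp5 off (stp0 off (stp5 off v)))), (fun v _ _ => v), fun _ _ => rfl, fun _ _ => rfl⟩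
def lf0_3 : Leaf (walkS st) := ⟨[], [2, 0, 2], 9, 2, (fun _ v => v), (fun off v => (stp2 off (stp0 off (stp2 off v)))), (fun v _ _ => v), fun _ _ => rfl, fun _ _ => rfl⟩
def lf0_4 : Leaf (walkS st) := ⟨[], [3, 0, 3], 10, 2, (fun _ v => v), (fun off v => (stp3 off (stp0 off (stp3 off v)))), (fun v _ _ => v), fun _ _ => rfl, fun _ _ => rfl⟩
def lf0_5 : Leaf (walkS st) := ⟨[], [4, 0, 4], 11, 2, (fun _ v => v), (fun off v => (stp4 off (stp0 off (stp4 off v)))), (fun v _ _ => v), fun _ _ => rfl, fun _ _ => rfl⟩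
def lf0_6 : Leaf (walkS st) := ⟨[], [6, 0, 6], 13, 2, (fun _ v => v), (fun off v => (stp6 off (stp0 off (stp6 off v)))), (fun v _ _ => v), fun _ _ => rfl, fun _ _ => rfl⟩
def lf0_7 : Leaf (walkS st) := ⟨[], [2, 3, 2, 3, 2, 3, 2, 3], 29, 0, (fun _ v => v), (fun off v => (stp3 off (stp2 off (stp3 off (stp2 off (stp3 off (stp2 off (stp3 off (stp2 off v))))))))), (fun v _ _ => v), fun _ _ => rfl, fun _ _ => rfl⟩
def tree0 : RTree (walkS st) :=
  (.node 1 (.fork lf0_0) (.node 3 (.node 2 (.fork lf0_1) .tleaf) (.node 5 (.node 4 (.fork lf0_3) (.fork lf0_4)) (.node 6 (.fork lf0_5) (.node 7 (.fork lf0_6) (.fork lf0_7))))))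
def lf1_0 : Leaf (walkS st) := ⟨[1], [], 1, 0, (fun off v => (stp1 off v)), (fun _ v => v), (fun _ u _ => u), fun _ _ => rfl, fun _ _ => rfl⟩
def lf1_1 : Leaf (walkS st) := ⟨[], [7, 1], 1, 0, (fun _ v => v), (fun off v => (stp1 off (stp7 off v))), (fun v _ _ => v), fun _ _ => rfl, fun _ _ => rfl⟩
def lf1_2 : Leaf (walkS st) := ⟨[], [0, 6, 5, 4, 3, 2], 7, 1, (fun _ v => v), (fun off v => (stp2 off (stp3 off (stp4 off (stp5 off (stp6 off (stp0 off v))))))), (fun v _ _ => v), fun _ _ => rfl, fun _ _ => rfl⟩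
def lf1_4 : Leaf (walkS st) := ⟨[], [3, 1, 3], 15, 2, (fun _ v => v), (fun off v => (stp3 off (stp1 off (stp3 off v)))), (fun v _ _ => v), fun _ _ => rfl, fun _ _ => rfl⟩
def lf1_5 : Leaf (walkS st) := ⟨[], [4, 1, 4], 16, 2, (fun _ v => v), (fun off v => (stp4 off (stp1 off (stp4 off v)))), (fun v _ _ => v), fun _ _ => rfl, fun _ _ => rfl⟩
def lf1_6 : Leaf (walkS st) := ⟨[1, 7], [], 1, 0, (fun off v => (stp7 off (stp1 off v))), (fun _ v => v), (fun _ u _ => u), fun _ _ => rfl, fun _ _ => rfl⟩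
def tree1 : RTree (walkS st) :=
  (.node 2 (.node 1 (.fork lf1_0) (.fork lf1_1)) (.node 4 (.node 3 (.fork lf1_2) .tleaf) (.node 5 (.fork lf1_4) (.node 6 (.fork lf1_5) (.fork lf1_6)))))
def lf2_0 : Leaf (walkS st) := ⟨[2], [], 2, 0, (fun off v => (stp2 off v)), (fun _ v => v), (fun _ u _ => u), fun _ _ => rfl, fun _ _ => rfl⟩
def lf2_2 : Leaf (walkS st) := ⟨[], [4, 2, 4], 20, 2, (fun _ v => v), (fun off v => (stp4 off (stp2 off (stp4 off v)))), (fun v _ _ => v), fun _ _ => rfl, fun _ _ => rfl⟩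
def lf2_3 : Leaf (walkS st) := ⟨[], [6, 2, 6], 22, 2, (fun _ v => v), (fun off v => (stp6 off (stp2 off (stp6 off v)))), (fun v _ _ => v), fun _ _ => rfl, fun _ _ => rfl⟩
def lf2_4 : Leaf (walkS st) := ⟨[7], [2], 2, 0, (fun off v => (stp7 off v)), (fun off v => (stp2 off v)), (fun _ _ p => p), fun _ _ => rfl, fun _ _ => rfl⟩
def lf2_5 : Leaf (walkS st) := ⟨[], [7, 2], 2, 0, (fun _ v => v), (fun off v => (stp2 off (stp7 off v))), (fun v _ _ => v), fun _ _ => rfl, fun _ _ => rfl⟩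
def tree2 : RTree (walkS st) :=
  (.node 2 (.node 1 (.fork lf2_0) .tleaf) (.node 4 (.node 3 (.fork lf2_2) (.fork lf2_3)) (.node 5 (.fork lf2_4) (.fork lf2_5))))
def lf3_0 : Leaf (walkS st) := ⟨[3], [], 3, 0, (fun off v => (stp3 off v)), (fun _ v => v), (fun _ u _ => u), fun _ _ => rfl, fun _ _ => rfl⟩
def lf3_2 : Leaf (walkS st) := ⟨[], [7, 3], 3, 0, (fun _ v => v), (fun off v => (stp3 off (stp7 off v))), (fun v _ _ => v), fun _ _ => rfl, fun _ _ => rfl⟩
def lf3_3 : Leaf (walkS st) := ⟨[], [5, 3, 5], 24, 2, (fun _ v => v), (fun off v => (stp5 off (stp3 off (stp5 off v)))), (fun v _ _ => v), fun _ _ => rfl, fun _ _ => rfl⟩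
def lf3_4 : Leaf (walkS st) := ⟨[], [6, 3, 6], 25, 2, (fun _ v => v), (fun off v => (stp6 off (stp3 off (stp6 off v)))), (fun v _ _ => v), fun _ _ => rfl, fun _ _ => rfl⟩
def lf3_5 : Leaf (walkS st) := ⟨[], [4, 5, 6, 0, 1, 2], 34, 3, (fun _ v => v), (fun off v => (stp2 off (stp1 off (stp0 off (stp6 off (stp5 off (stp4 off v))))))), (fun v _ _ => v), fun _ _ => rfl, fun _ _ => rfl⟩
def lf3_6 : Leaf (walkS st) := ⟨[7], [3], 3, 0, (fun off v => (stp7 off v)), (fun off v => (stp3 off v)), (fun _ _ p => p), fun _ _ => rfl, fun _ _ => rfl⟩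
def tree3 : RTree (walkS st) :=
  (.node 1 (.fork lf3_0) (.node 2 .tleaf (.node 4 (.node 3 (.fork lf3_2) (.fork lf3_3)) (.node 5 (.fork lf3_4) (.node 6 (.fork lf3_5) (.fork lf3_6))))))
def lf4_1 : Leaf (walkS st) := ⟨[4], [], 4, 0, (fun off v => (stp4 off v)), (fun _ v => v), (fun _ u _ => u), fun _ _ => rfl, fun _ _ => rfl⟩
def lf4_2 : Leaf (walkS st) := ⟨[], [5, 4, 5], 26, 2, (fun _ v => v), (fun off v => (stp5 off (stp4 off (stp5 off v)))), (fun v _ _ => v), fun _ _ => rfl, fun _ _ => rfl⟩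
def lf4_3 : Leaf (walkS st) := ⟨[], [6, 4, 6], 27, 2, (fun _ v => v), (fun off v => (stp6 off (stp4 off (stp6 off v)))), (fun v _ _ => v), fun _ _ => rfl, fun _ _ => rfl⟩
def lf4_4 : Leaf (walkS st) := ⟨[], [3, 2, 1, 0, 6, 5], 7, 4, (fun _ v => v), (fun off v => (stp5 off (stp6 off (stp0 off (stp1 off (stp2 off (stp3 off v))))))), (fun v _ _ => v), fun _ _ => rfl, fun _ _ => rfl⟩
def lf4_5 : Leaf (walkS st) := ⟨[7], [4], 4, 0, (fun off v => (stp7 off v)), (fun off v => (stp4 off v)), (fun _ _ p => p), fun _ _ => rfl, fun _ _ => rfl⟩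
def tree4 : RTree (walkS st) :=
  (.node 1 .tleaf (.node 2 (.fork lf4_1) (.node 4 (.node 3 (.fork lf4_2) (.fork lf4_3)) (.node 5 (.fork lf4_4) (.fork lf4_5)))))
def lf5_0 : Leaf (walkS st) := ⟨[5], [], 5, 0, (fun off v => (stp5 off v)), (fun _ v => v), (fun _ u _ => u), fun _ _ => rfl, fun _ _ => rfl⟩
def lf5_2 : Leaf (walkS st) := ⟨[7], [5], 5, 0, (fun off v => (stp7 off v)), (fun off v => (stp5 off v)), (fun _ _ p => p), fun _ _ => rfl, fun _ _ => rfl⟩
def lf5_3 : Leaf (walkS st) := ⟨[], [6, 0, 5, 6], 30, 2, (fun _ v => v), (fun off v => (stp6 off (stp5 off (stp0 off (stp6 off v))))), (fun v _ _ => v), fun _ _ => rfl, fun _ _ => rfl⟩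
def lf5_4 : Leaf (walkS st) := ⟨[], [4, 5, 4], 26, 3, (fun _ v => v), (fun off v => (stp4 off (stp5 off (stp4 off v)))), (fun v _ _ => v), fun _ _ => rfl, fun _ _ => rfl⟩
def lf5_5 : Leaf (walkS st) := ⟨[], [3, 5, 3], 24, 1, (fun _ v => v), (fun off v => (stp3 off (stp5 off (stp3 off v)))), (fun v _ _ => v), fun _ _ => rfl, fun _ _ => rfl⟩
def lf5_6 : Leaf (walkS st) := ⟨[], [7, 5], 5, 0, (fun _ v => v), (fun off v => (stp5 off (stp7 off v))), (fun v _ _ => v), fun _ _ => rfl, fun _ _ => rfl⟩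
def tree5 : RTree (walkS st) :=
  (.node 1 (.fork lf5_0) (.node 2 .tleaf (.node 3 (.fork lf5_2) (.node 5 (.node 4 (.fork lf5_3) (.fork lf5_4)) (.node 6 (.fork lf5_5) (.fork lf5_6))))))
def lf6_0 : Leaf (walkS st) := ⟨[6], [], 6, 0, (fun off v => (stp6 off v)), (fun _ v => v), (fun _ u _ => u), fun _ _ => rfl, fun _ _ => rfl⟩
def lf6_2 : Leaf (walkS st) := ⟨[], [7, 6], 6, 0, (fun _ v => v), (fun off v => (stp6 off (stp7 off v))), (fun v _ _ => v), fun _ _ => rfl, fun _ _ => rfl⟩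
def lf6_3 : Leaf (walkS st) := ⟨[7], [6], 6, 0, (fun off v => (stp7 off v)), (fun off v => (stp6 off v)), (fun _ _ p => p), fun _ _ => rfl, fun _ _ => rfl⟩
def lf6_4 : Leaf (walkS st) := ⟨[], [5, 6, 0, 5], 30, 3, (fun _ v => v), (fun off v => (stp5 off (stp0 off (stp6 off (stp5 off v))))), (fun v _ _ => v), fun _ _ => rfl, fun _ _ => rfl⟩
def lf6_5 : Leaf (walkS st) := ⟨[], [4, 6, 4], 27, 3, (fun _ v => v), (fun off v => (stp4 off (stp6 off (stp4 off v)))), (fun v _ _ => v), fun _ _ => rfl, fun _ _ => rfl⟩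
def lf6_6 : Leaf (walkS st) := ⟨[], [3, 6, 3], 25, 1, (fun _ v => v), (fun off v => (stp3 off (stp6 off (stp3 off v)))), (fun v _ _ => v), fun _ _ => rfl, fun _ _ => rfl⟩
def tree6 : RTree (walkS st) :=
  (.node 1 (.fork lf6_0) (.node 2 .tleaf (.node 3 (.fork lf6_2) (.node 4 (.fork lf6_3) (.node 5 (.fork lf6_4) (.node 6 (.fork lf6_5) (.fork lf6_6)))))))
def lf7_0 : Leaf (walkS st) := ⟨[3], [7, 3], 3, 0, (fun off v => (stp3 off v)), (fun off v => (stp3 off (stp7 off v))), (fun _ _ p => p), fun _ _ => rfl, fun _ _ => rfl⟩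
def lf7_1 : Leaf (walkS st) := ⟨[6], [7, 6], 6, 0, (fun off v => (stp6 off v)), (fun off v => (stp6 off (stp7 off v))), (fun _ _ p => p), fun _ _ => rfl, fun _ _ => rfl⟩
def lf7_2 : Leaf (walkS st) := ⟨[7, 5], [5], 5, 0, (fun off v => (stp5 off (stp7 off v))), (fun off v => (stp5 off v)), (fun _ _ p => p), fun _ _ => rfl, fun _ _ => rfl⟩
def lf7_3 : Leaf (walkS st) := ⟨[7, 6], [6], 6, 0, (fun off v => (stp6 off (stp7 off v))), (fun off v => (stp6 off v)), (fun _ _ p => p), fun _ _ => rfl, fun _ _ => rfl⟩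
def lf7_4 : Leaf (walkS st) := ⟨[7, 2], [2], 2, 0, (fun off v => (stp2 off (stp7 off v))), (fun off v => (stp2 off v)), (fun _ _ p => p), fun _ _ => rfl, fun _ _ => rfl⟩
def lf7_5 : Leaf (walkS st) := ⟨[], [3, 4, 3, 4, 3, 4], 50, 0, (fun _ v => v), (fun off v => (stp4 off (stp3 off (stp4 off (stp3 off (stp4 off (stp3 off v))))))), (fun v _ _ => v), fun _ _ => rfl, fun _ _ => rfl⟩
def lf7_6 : Leaf (walkS st) := ⟨[7, 0], [0], 0, 0, (fun off v => (stp0 off (stp7 off v))), (fun off v => (stp0 off v)), (fun _ _ p => p), fun _ _ => rfl, fun _ _ => rfl⟩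
def lf7_7 : Leaf (walkS st) := ⟨[5], [7, 5], 5, 0, (fun off v => (stp5 off v)), (fun off v => (stp5 off (stp7 off v))), (fun _ _ p => p), fun _ _ => rfl, fun _ _ => rfl⟩
def lf7_8 : Leaf (walkS st) := ⟨[1], [7, 1], 1, 0, (fun off v => (stp1 off v)), (fun off v => (stp1 off (stp7 off v))), (fun _ _ p => p), fun _ _ => rfl, fun _ _ => rfl⟩
def lf7_9 : Leaf (walkS st) := ⟨[7, 4], [4], 4, 0, (fun off v => (stp4 off (stp7 off v))), (fun off v => (stp4 off v)), (fun _ _ p => p), fun _ _ => rfl, fun _ _ => rfl⟩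
def lf7_10 : Leaf (walkS st) := ⟨[], [3, 0, 2, 3, 2, 3, 2, 3, 2, 7], 29, 2, (fun _ v => v), (fun off v => (stp7 off (stp2 off (stp3 off (stp2 off (stp3 off (stp2 off (stp3 off (stp2 off (stp0 off (stp3 off v))))))))))), (fun v _ _ => v), fun _ _ => rfl, fun _ _ => rfl⟩
def lf7_11 : Leaf (walkS st) := ⟨[2, 7], [7, 2], 2, 0, (fun off v => (stp7 off (stp2 off v))), (fun off v => (stp2 off (stp7 off v))), (fun _ _ p => p), fun _ _ => rfl, fun _ _ => rfl⟩
def lf7_12 : Leaf (walkS st) := ⟨[2], [7, 2], 2, 0, (fun off v => (stp2 off v)), (fun off v => (stp2 off (stp7 off v))), (fun _ _ p => p), fun _ _ => rfl, fun _ _ => rfl⟩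
def lf7_13 : Leaf (walkS st) := ⟨[4], [7, 4], 4, 0, (fun off v => (stp4 off v)), (fun off v => (stp4 off (stp7 off v))), (fun _ _ p => p), fun _ _ => rfl, fun _ _ => rfl⟩
def lf7_14 : Leaf (walkS st) := ⟨[], [0, 1, 0, 1, 0, 1, 0, 1, 0, 1, 7], 35, 0, (fun _ v => v), (fun off v => (stp7 off (stp1 off (stp0 off (stp1 off (stp0 off (stp1 off (stp0 off (stp1 off (stp0 off (stp1 off (stp0 off v)))))))))))), (fun v _ _ => v), fun _ _ => rfl, fun _ _ => rfl⟩
def lf7_15 : Leaf (walkS st) := ⟨[2, 7], [7, 2, 7], 2, 0, (fun off v => (stp7 off (stp2 off v))), (fun off v => (stp7 off (stp2 off (stp7 off v)))), (fun _ _ p => p), fun _ _ => rfl, fun _ _ => rfl⟩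
def lf7_16 : Leaf (walkS st) := ⟨[4, 7], [7, 4], 4, 0, (fun off v => (stp7 off (stp4 off v))), (fun off v => (stp4 off (stp7 off v))), (fun _ _ p => p), fun _ _ => rfl, fun _ _ => rfl⟩
def lf7_17 : Leaf (walkS st) := ⟨[3, 7], [7, 3], 3, 0, (fun off v => (stp7 off (stp3 off v))), (fun off v => (stp3 off (stp7 off v))), (fun _ _ p => p), fun _ _ => rfl, fun _ _ => rfl⟩
def lf7_18 : Leaf (walkS st) := ⟨[7, 5], [5, 7], 5, 0, (fun off v => (stp5 off (stp7 off v))), (fun off v => (stp7 off (stp5 off v))), (fun _ _ p => p), fun _ _ => rfl, fun _ _ => rfl⟩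
def lf7_19 : Leaf (walkS st) := ⟨[], [6, 5, 1, 6, 5, 1, 6, 5, 1, 6, 5, 1, 6, 5, 1, 7, 7], 32, 0, (fun _ v => v), (fun off v => (stp7 off (stp7 off (stp1 off (stp5 off (stp6 off (stp1 off (stp5 off (stp6 off (stp1 off (stp5 off (stp6 off (stp1 off (stp5 off (stp6 off (stp1 off (stp5 off (stp6 off v)))))))))))))))))), (fun v _ _ => v), fun _ _ => rfl, fun _ _ => rfl⟩
def lf7_20 : Leaf (walkS st) := ⟨[5, 7, 7], [7, 5], 5, 0, (fun off v => (stp7 off (stp7 off (stp5 off v)))), (fun off v => (stp5 off (stp7 off v))), (fun _ _ p => p), fun _ _ => rfl, fun _ _ => rfl⟩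
def lf7_21 : Leaf (walkS st) := ⟨[5, 7], [7, 5], 5, 0, (fun off v => (stp7 off (stp5 off v))), (fun off v => (stp5 off (stp7 off v))), (fun _ _ p => p), fun _ _ => rfl, fun _ _ => rfl⟩
def lf7_22 : Leaf (walkS st) := ⟨[], [1, 5, 1, 5, 1, 5], 44, 0, (fun _ v => v), (fun off v => (stp5 off (stp1 off (stp5 off (stp1 off (stp5 off (stp1 off v))))))), (fun v _ _ => v), fun _ _ => rfl, fun _ _ => rfl⟩
def lf7_23 : Leaf (walkS st) := ⟨[], [4, 3, 2, 3, 2, 1, 3, 2, 3, 2, 1, 3, 2, 3, 2, 1, 3, 2, 3, 2, 1, 3, 2, 3, 2, 1, 4, 3, 2, 3, 2, 1, 3, 2, 3, 2, 1, 3, 2, 3, 2, 1, 3, 2, 3, 2, 1, 3, 2, 3, 2, 1, 4, 3, 2, 3, 2, 1, 3, 2, 3, 2, 1, 3, 2, 3, 2, 1, 3, 2, 3, 2, 1, 3, 2, 3, 2, 1], 33, 0, (fun _ v => v), (fun off v => (stp1 off (stp2 off (stp3 off (stp2 off (stp3 off (stp1 off (stp2 off (stp3 off (stp2 off (stp3 off (stp1 off (stp2 off (stp3 off (stp2 off (stp3 off (stp1 off (stp2 off (stp3 off (stp2 off (stp3 off (stp1 off (stp2 off (stp3 off (stp2 off (stp3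 off (stp4 off (stp1 off (stp2 off (stp3 off (stp2 off (stp3 off (stp1 off (stp2 off (stp3 off (stp2 off (stp3 off (stp1 off (stp2 off (stp3 off (stp2 off (stp3 off (stp1 off (stp2 off (stp3 off (stp2 off (stp3 off (stp1 off (stp2 off (stp3 off (stp2 off (stp3 off (stp4 off (stp1 off (stp2 off (stp3 off (stp2 off (stp3 off (stp1 off (stp2 off (stp3 off (stp2 off (stp3 off (stp1 off (stp2 off (stp3 off (stp2 off (stp3 off (stp1 off (stp2 off (stp3 off (stp2 off (stp3 off (stp1 off (stp2 off (stp3 off (stp2 off (stp3 off (stp4 off v))))))))))))))))))))))))))))))))))))))))))))))))))))))))))))))))))))))))))))))), (fun v _ _ => v), fun _ _ => rfl, fun _ _ => rfl⟩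
def tree7 : RTree (walkS st) :=
  (.node 5 (.node 1 (.fork lf7_0) (.node 2 (.fork lf7_1) (.node 3 (.fork lf7_2) (.node 4 (.fork lf7_3) (.fork lf7_4))))) (.node 14 (.node 9 (.node 7 (.node 6 (.fork lf7_5) (.fork lf7_6)) (.node 8 (.fork lf7_7) (.fork lf7_8))) (.node 11 (.node 10 (.fork lf7_9) (.fork lf7_10)) (.node 12 (.fork lf7_11) (.node 13 (.fork lf7_12) (.fork lf7_13))))) (.node 19 (.node 16 (.node 15 (.fork lf7_14) (.fork lf7_15)) (.node 17 (.fork lf7_16) (.node 18 (.fork lf7_17) (.fork lf7_18)))) (.node 21 (.node 20 (.fork lf7_19) (.fork lf7_20)) (.node 22 (.fork lf7_21) (.node 23 (.fork lf7_22) (.fork lf7_23)))))))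
def trees : Nat → RTree (walkS st)
  | 0 => tree0
  | 1 => tree1
  | 2 => tree2
  | 3 => tree3
  | 4 => tree4
  | 5 => tree5
  | 6 => tree6
  | 7 => tree7
  | _ => .tleaf
noncomputable def fs0 (v : Nat) : Bool := chkSlot par tA0 je0 pe 5 31 8 (deadF par tA7) (fun _ => 39) tree0 0 v
noncomputable def fs1 (v : Nat) : Bool := chkSlot par tA1 je1 pe 5 31 8 (deadF par tA7) (fun _ => 39) tree1 1 v
noncomputable def fs2 (v : Nat) : Bool := chkSlot par tA2 je2 pe 5 31 8 (deadF par tA7) (fun _ => 39) tree2 2 v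
noncomputable def fs3 (v : Nat) : Bool := chkSlot par tA3 je3 pe 5 31 8 (deadF par tA7) (fun _ => 39) tree3 3 v
noncomputable def fs4 (v : Nat) : Bool := chkSlot par tA4 je4 pe 5 31 8 (deadF par tA7) (fun _ => 39) tree4 4 v
noncomputable def fs5 (v : Nat) : Bool := chkSlot par tA5 je5 pe 5 31 8 (deadF par tA7) (fun _ => 39) tree5 5 v
noncomputable def fs6 (v : Nat) : Bool := chkSlot par tA6 je6 pe 5 31 8 (deadF par tA7) (fun _ => 39) tree6 6 v
noncomputable def fs7 (v : Nat) : Bool := chkSlot par tA7 je7 pe 5 31 8 (fun _ => true) (fun v => Nat.pred v) tree7 7 v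
def gl (k : Nat) : Bool := liveF par tA7 (Nat.succ k)

end Cfsg.Agent.Lib.Helper35.SuzOrd.Y0
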